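import Mathlib.AlgebraicGeometry.AffineTransitionLimit
import Mathlib.Topology.Constructible
import Mathlib.Topology.LocallyClosed

set_option autoImplicit false
universe u
open CategoryTheory Limits AlgebraicGeometry Topology TopologicalSpace

namespace Groth.Agent.Lib.Helper73

section Top

variable {X : Type*} [TopologicalSpace X]

lemma isConstructible_sdiff_union_induction {P : Set X → Prop}
    (sdiff : ∀ U V : Set X, IsOpen U → IsRetrocompact U → IsOpen V → IsRetrocompact V → P (U \ V))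
    (union : ∀ s t, P s → P t → P (s ∪ t)) {s : Set X} (hs : IsConstructible s) : P s := by
  induction s, hs using BooleanSubalgebra.closure_sdiff_sup_induction with
  | isSublattice =>
    exact ⟨fun s hs t ht ↦ ⟨hs.1.union ht.1, hs.2.union ht.2⟩,
      fun s hs t ht ↦ ⟨hs.1.inter ht.1, hs.2.inter_isOpen ht.2 ht.1⟩⟩
  | bot_mem => exact ⟨isOpen_empty, .empty⟩
  | top_mem => exact ⟨isOpen_univ, .univ⟩
  | sdiff U hU V hV => exact sdiff U V hU.1 hU.2 hV.1 hV.2
  | sup s _ t _ hs' ht' => exact union _ _ hs' ht'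

lemma isCompact_inter_of_isConstructible {U T : Set X} (hU : IsCompact U) (hUo : IsOpen U)
    (hT : IsConstructible T) : IsCompact (U ∩ T) := by
  refine isConstructible_sdiff_union_induction (P := fun T => IsCompact (U ∩ T)) ?_ ?_ hT
  · intro A B hA hA' hB hB'
    have h1 : IsCompact (A ∩ U) := hA' hU hUo
    have h2 : IsCompact ((A ∩ U) \ B) := h1.diff hB
    have e : U ∩ (A \ B) = (A ∩ U) \ B := by
      ext x; simp only [Set.mem_inter_iff, Set.mem_sdiff]; tauto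
    rw [e]; exact h2
  · intro s t hs ht
    rw [Set.inter_union_distrib_left]
    exact hs.union ht

lemma isCompact_of_isConstructible [CompactSpace X] {T : Set X} (hT : IsConstructible T) :
    IsCompact T := by
  simpa using isCompact_inter_of_isConstructible isCompact_univ isOpen_univ hT

end Top

section Scheme

lemma isRetrocompact_preimage {X Y : Scheme.{u}} (f : X ⟶ Y) {t : Set Y} (ht : IsOpen t)
    (ht' : IsRetrocompact t) : IsRetrocompact (f ⁻¹' t) :=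
  IsRetrocompact_iff_isSpectralMap_subtypeVal.mpr
    (quasiCompact_iff_isSpectralMap.mp
    (MorphismProperty.of_isPullback (P := @QuasiCompact)
    (isPullback_morphismRestrict f ⟨t, ht⟩)
    (quasiCompact_iff_isSpectralMap.mpr (IsRetrocompact_iff_isSpectralMap_subtypeVal.mp ht'))))

lemma exists_compact_opens_sdiff {S : Scheme.{u}} [CompactSpace S] {Z : Set S}
    (hZ : IsConstructible Z) (hZ' : IsLocallyClosed Z) :
    ∃ U W : S.Opens, IsCompact (U : Set S) ∧ IsCompact (W : Set S) ∧ Z = (U : Set S) \ W := by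
  have hZc : IsCompact Z := isCompact_of_isConstructible hZ
  obtain ⟨O, C, hO, hC, rfl⟩ := hZ'
  have hex : ∀ x ∈ O ∩ C, ∃ V : S.Opens, IsAffineOpen V ∧ x ∈ V ∧ (V : Set S) ⊆ O := by
    intro x hx
    obtain ⟨_, ⟨V, hV, rfl⟩, hxV, hVO⟩ :=
      S.isBasis_affineOpens.exists_subset_of_mem_open hx.1 hO
    exact ⟨V, hV, hxV, hVO⟩
  choose V hV hxV hVO using hex
  obtain ⟨t, ht⟩ := hZc.elim_nhds_subcover' (fun x hx => (V x hx : Set S))
    (fun x hx => (V x hx).2.mem_nhds (hxV x hx))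
  let U : S.Opens := ⟨⋃ x ∈ t, (V x.1 x.2 : Set S), isOpen_biUnion fun x _ => (V x.1 x.2).2⟩
  have hUc : IsCompact (U : Set S) := t.isCompact_biUnion fun x _ => (hV x.1 x.2).isCompact
  have hUO : (U : Set S) ⊆ O := Set.iUnion₂_subset fun x _ => hVO x.1 x.2
  let W : S.Opens := ⟨(U : Set S) ∩ Cᶜ, U.2.inter hC.isOpen_compl⟩
  have hW : (W : Set S) = (U : Set S) ∩ (O ∩ C)ᶜ := by
    ext x
    simp only [W, Opens.coe_mk, Set.mem_inter_iff, Set.mem_compl_iff, not_and]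
    constructor
    · rintro ⟨h1, h2⟩; exact ⟨h1, fun _ => h2⟩
    · rintro ⟨h1, h2⟩; exact ⟨h1, h2 (hUO h1)⟩
  refine ⟨U, W, hUc, ?_, ?_⟩
  · rw [hW]
    exact isCompact_inter_of_isConstructible hUc U.2 hZ.compl
  · rw [hW]
    ext x
    simp only [Set.mem_inter_iff, Set.mem_sdiff, Set.mem_compl_iff, not_and, not_forall]
    constructor
    · rintro ⟨h1, h2⟩; exact ⟨ht ⟨h1, h2⟩, fun _ => ⟨h1, not_not.mpr h2⟩⟩
    · rintro ⟨h1, h2⟩
      obtain ⟨h3, h4⟩ := h2 h1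
      exact ⟨h3, not_not.mp h4⟩

end Scheme

section Limit

variable {I : Type u} [Category.{u} I] [IsCofiltered I] (D : I ⥤ Scheme.{u}) (c : Cone D)
  (hc : IsLimit c) [∀ (i j : I) (f : i ⟶ j), IsAffineHom (D.map f)]

include hc in
lemma exists_forall_mem_of_isConstructible (i₁ : I) {T : Set (D.obj i₁)}
    (hT : IsConstructible T) :
    ∀ (j : I) (φ : j ⟶ i₁) (K W : (D.obj j).Opens), IsCompact (K : Set (D.obj j)) →
      (∀ s : c.pt, c.π.app j s ∈ K → c.π.app i₁ s ∈ T → c.π.app j s ∈ W) →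
      ∃ (j' : I) (ψ : j' ⟶ j), ∀ x : D.obj j',
        D.map ψ x ∈ K → D.map φ (D.map ψ x) ∈ T → D.map ψ x ∈ W := by
  refine isConstructible_sdiff_union_induction
    (P := fun T => ∀ (j : I) (φ : j ⟶ i₁) (K W : (D.obj j).Opens),
      IsCompact (K : Set (D.obj j)) →
      (∀ s : c.pt, c.π.app j s ∈ K → c.π.app i₁ s ∈ T → c.π.app j s ∈ W) →
      ∃ (j' : I) (ψ : j' ⟶ j), ∀ x : D.obj j',
        D.map ψ x ∈ K → D.map φ (D.map ψ x) ∈ T → D.map ψ x ∈ W) ?_ ?_ hT
  · intro U V hU hU' hV hV' j φ K W hK H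
    let K' : (D.obj j).Opens := K ⊓ (D.map φ ⁻¹ᵁ ⟨U, hU⟩)
    let W' : (D.obj j).Opens := W ⊔ (D.map φ ⁻¹ᵁ ⟨V, hV⟩)
    have hK' : IsCompact (K' : Set (D.obj j)) := by
      have := isRetrocompact_preimage (D.map φ) hU hU' hK K.2
      rw [Set.inter_comm] at this
      exact this
    have HH : c.π.app j ⁻¹ᵁ K' ≤ c.π.app j ⁻¹ᵁ W' := by
      intro s hs
      have hs1 : c.π.app j s ∈ K := hs.1
      have hs2 : D.map φ (c.π.app j s) ∈ U := hs.2
      have e : D.map φ (c.π.app j s) = c.π.app i₁ s := by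
        rw [← Scheme.Hom.comp_apply, c.w]
      by_cases hsV : c.π.app i₁ s ∈ V
      · right
        change D.map φ (c.π.app j s) ∈ V
        rw [e]; exact hsV
      · left
        exact H s hs1 ⟨e ▸ hs2, hsV⟩
    obtain ⟨j', ψ, hψ⟩ := exists_map_preimage_le_map_preimage D c hc hK' HH
    refine ⟨j', ψ, fun x hxK hxT => ?_⟩
    have : D.map ψ x ∈ W' := hψ ⟨hxK, hxT.1⟩
    rcases this with h | h
    · exact h
    · exact (hxT.2 h).elim
  · intro T₁ T₂ h₁ h₂ j φ K W hK H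
    obtain ⟨j₁, ψ₁, H₁⟩ := h₁ j φ K W hK (fun s hs hT => H s hs (Or.inl hT))
    obtain ⟨j₂, ψ₂, H₂⟩ := h₂ j φ K W hK (fun s hs hT => H s hs (Or.inr hT))
    obtain ⟨j', χ₁, χ₂, e⟩ := IsCofiltered.cospan ψ₁ ψ₂
    refine ⟨j', χ₁ ≫ ψ₁, fun x hxK hxT => ?_⟩
    rcases hxT with h | h
    · have e1 : D.map (χ₁ ≫ ψ₁) x = D.map ψ₁ (D.map χ₁ x) := by
        rw [Functor.map_comp, Scheme.Hom.comp_apply]
      rw [e1] at hxK h ⊢
      exact H₁ _ hxK h
    · have e1 : D.map (χ₁ ≫ ψ₁) x = D.map ψ₂ (D.map χ₂ x) := by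
        rw [e, Functor.map_comp, Scheme.Hom.comp_apply]
      rw [e1] at hxK h ⊢
      exact H₂ _ hxK h

include hc in
lemma exists_compact_opens_preimage_eq (i₀ : I) (U : c.pt.Opens) (hU : IsCompact (U : Set c.pt)) :
    ∃ (i : I) (_ : i ⟶ i₀) (V : (D.obj i).Opens),
      IsCompact (V : Set (D.obj i)) ∧ c.π.app i ⁻¹ᵁ V = U := by
  obtain ⟨i', V, hV, e⟩ := exists_preimage_eq D c hc U hU
  refine ⟨IsCofiltered.min i' i₀, IsCofiltered.minToRight _ _,
    D.map (IsCofiltered.minToLeft i' i₀) ⁻¹ᵁ V, ?_, ?_⟩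
  · exact (D.map _).isCompact_preimage hV
  · rw [← Scheme.Hom.comp_preimage, c.w, e]

include hc in
lemma exists_compact_opens_preimage_eq₂ (i₀ : I) (U W : c.pt.Opens)
    (hU : IsCompact (U : Set c.pt)) (hW : IsCompact (W : Set c.pt)) :
    ∃ (i : I) (_ : i ⟶ i₀) (U' W' : (D.obj i).Opens),
      IsCompact (U' : Set (D.obj i)) ∧ IsCompact (W' : Set (D.obj i)) ∧
      c.π.app i ⁻¹ᵁ U' = U ∧ c.π.app i ⁻¹ᵁ W' = W := by
  obtain ⟨i₁, a₁, U₁, hU₁, e₁⟩ := exists_compact_opens_preimage_eq D c hc i₀ U hU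
  obtain ⟨i₂, a₂, W₂, hW₂, e₂⟩ := exists_compact_opens_preimage_eq D c hc i₁ W hW
  refine ⟨i₂, a₂ ≫ a₁, D.map a₂ ⁻¹ᵁ U₁, W₂, (D.map _).isCompact_preimage hU₁, hW₂, ?_, e₂⟩
  rw [← Scheme.Hom.comp_preimage, c.w, e₁]

omit [IsCofiltered I] in
lemma compactSpace_of_hom {i i₀ : I} (a : i ⟶ i₀) [CompactSpace (D.obj i₀)] :
    CompactSpace (D.obj i) :=
  QuasiCompact.compactSpace_of_compactSpace (D.map a)

omit [IsCofiltered I] in
lemma quasiSeparatedSpace_of_hom {i i₀ : I} (a : i ⟶ i₀) [QuasiSeparatedSpace (D.obj i₀)] :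
    QuasiSeparatedSpace (D.obj i) :=
  quasiSeparatedSpace_of_quasiSeparated (D.map a)

include hc in
lemma compactSpace_pt (i₀ : I) [CompactSpace (D.obj i₀)] : CompactSpace c.pt := by
  have := isAffineHom_π_app D c hc i₀
  exact QuasiCompact.compactSpace_of_compactSpace (c.π.app i₀)

end Limit

end Groth.Agent.Lib.Helper73
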