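import Mathlib.AlgebraicGeometry.AffineTransitionLimit

set_option autoImplicit false
set_option backward.isDefEq.respectTransparency false
universe u
open CategoryTheory Limits AlgebraicGeometry

namespace Groth.Agent.Lib.Helper73

variable {I : Type u} [Category.{u} I] (D : I ⥤ Scheme.{u}) (c : Cone D) (i : I)
  {T : Scheme.{u}} (g : T ⟶ D.obj i)

/-- The base change of the diagram `{ Dⱼ }_{j ⟶ i}` along `g : T ⟶ Dᵢ`. -/
noncomputable def bcDiagram : Over i ⥤ Scheme.{u} where
  obj j := pullback (D.map j.hom) g
  map {j k} f := pullback.map (D.map j.hom) g (D.map k.hom) g (D.map f.left) (𝟙 T) (𝟙 _)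
      (by rw [Category.comp_id, ← D.map_comp, Over.w f]) (by simp)
  map_id j := by
    apply pullback.hom_ext <;> simp
  map_comp f h := by
    apply pullback.hom_ext <;> simp

@[simp]
lemma bcDiagram_obj (j : Over i) : (bcDiagram D i g).obj j = pullback (D.map j.hom) g := rfl

@[reassoc (attr := simp)]
lemma bcDiagram_map_fst {j k : Over i} (f : j ⟶ k) :
    (bcDiagram D i g).map f ≫ pullback.fst (D.map k.hom) g =
      pullback.fst (D.map j.hom) g ≫ D.map f.left := by
  simp [bcDiagram]

@[reassoc (attr := simp)]
lemma bcDiagram_map_snd {j k : Over i} (f : j ⟶ k) :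
    (bcDiagram D i g).map f ≫ pullback.snd (D.map k.hom) g =
      pullback.snd (D.map j.hom) g := by
  simp [bcDiagram]

/-- The projection from the base-changed diagram to the original one. -/
noncomputable def bcDiagramι : bcDiagram D i g ⟶ Over.forget i ⋙ D where
  app j := pullback.fst (D.map j.hom) g
  naturality j k f := by simp

@[simp]
lemma bcDiagramι_app (j : Over i) :
    (bcDiagramι D i g).app j = pullback.fst (D.map j.hom) g := rfl

/-- The base-changed cone. -/
noncomputable def bcCone : Cone (bcDiagram D i g) where
  pt := pullback (c.π.app i) g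
  π :=
  { app := fun j => pullback.map (c.π.app i) g (D.map j.hom) g (c.π.app j.left) (𝟙 T) (𝟙 _)
      (by simp) (by simp)
    naturality := fun j k f => by
      apply pullback.hom_ext <;> simp }

@[simp]
lemma bcCone_pt : (bcCone D c i g).pt = pullback (c.π.app i) g := rfl

@[reassoc (attr := simp)]
lemma bcCone_π_app_fst (j : Over i) :
    (bcCone D c i g).π.app j ≫ pullback.fst (D.map j.hom) g =
      pullback.fst (c.π.app i) g ≫ c.π.app j.left := by
  simp [bcCone]

@[reassoc (attr := simp)]
lemma bcCone_π_app_snd (j : Over i) :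
    (bcCone D c i g).π.app j ≫ pullback.snd (D.map j.hom) g =
      pullback.snd (c.π.app i) g := by
  simp [bcCone]

attribute [local instance] CategoryTheory.isConnected_of_hasTerminal

lemma isPullback_bcCone (j : Over i) :
    IsPullback ((bcCone D c i g).π.app j) (pullback.fst (c.π.app i) g)
      (pullback.fst (D.map j.hom) g) (c.π.app j.left) := by
  refine IsPullback.of_right (h₁₂ := pullback.snd (D.map j.hom) g) (v₁₃ := g)
    (h₂₂ := D.map j.hom) ?_ (by simp) (IsPullback.of_hasPullback _ _).flip
  rw [bcCone_π_app_snd, c.w]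
  exact (IsPullback.of_hasPullback _ _).flip

/-- The base change of a limit cone is a limit cone. -/
noncomputable def isLimitBcCone [IsCofiltered I] (hc : IsLimit c) : IsLimit (bcCone D c i g) :=
  isLimitOfIsPullbackOfIsConnected (bcDiagramι D i g) _ _
    (by exact { hom := pullback.fst (c.π.app i) g })
    (fun j ↦ isPullback_bcCone D c i g j)
    ((Functor.Initial.isLimitWhiskerEquiv (Over.forget i) c).symm hc)

instance isAffineHom_bcDiagram_map [∀ (i j : I) (f : i ⟶ j), IsAffineHom (D.map f)]
    {j k : Over i} (f : j ⟶ k) : IsAffineHom ((bcDiagram D i g).map f) := by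
  have h1 : IsAffineHom (pullback.snd (D.map k.hom) g) :=
    MorphismProperty.pullback_snd _ _ inferInstance
  have h2 : IsAffineHom (pullback.snd (D.map j.hom) g) :=
    MorphismProperty.pullback_snd _ _ inferInstance
  have : IsAffineHom ((bcDiagram D i g).map f ≫ pullback.snd (D.map k.hom) g) := by
    rw [bcDiagram_map_snd]; exact h2
  have h3 : IsSeparated (pullback.snd (D.map k.hom) g) := inferInstance
  exact IsAffineHom.of_comp _ (pullback.snd (D.map k.hom) g)

end Groth.Agent.Lib.Helper73
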