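import Mathlib.Topology.KrullDimension
import Mathlib.Topology.Sober
import Mathlib.Topology.Inseparable
import Mathlib.Topology.DiscreteSubset

set_option autoImplicit false
open TopologicalSpace Topology Order

namespace Groth.Agent.Lib.Helper73

section

variable {X Y : Type*} [TopologicalSpace X] [TopologicalSpace Y]

attribute [local instance] specializationOrder

/-- If `g` is continuous and there are no nontrivial specializations inside a fibre of `g`,
then `dim X ≤ dim Y`. -/
lemma topologicalKrullDim_le_of_incomparable [QuasiSober X] [T0Space X] [QuasiSober Y]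
    [T0Space Y] {g : X → Y} (hg : Continuous g)
    (hinc : ∀ x x' : X, x ⤳ x' → g x = g x' → x = x') :
    topologicalKrullDim X ≤ topologicalKrullDim Y := by
  rw [topologicalKrullDim, topologicalKrullDim,
    krullDim_eq_of_orderIso (irreducibleSetEquivPoints (α := Y)),
    krullDim_eq_of_orderIso (irreducibleSetEquivPoints (α := X))]
  refine krullDim_le_of_strictMono g ?_
  intro a b hab
  have hba : b ⤳ a := hab.le
  have h1 : g b ⤳ g a := hba.map hg
  refine lt_of_le_of_ne h1 ?_
  intro h
  exact hab.ne (hinc b a hba h.symm).symm

end

/-- No nontrivial specializations inside a discrete subset. -/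
lemma eq_of_specializes_of_isDiscrete {X : Type*} [TopologicalSpace X] {s : Set X}
    (hs : IsDiscrete s) {x x' : X} (hx : x ∈ s) (hx' : x' ∈ s) (h : x ⤳ x') : x = x' := by
  have := hs.to_subtype
  have h' : (⟨x, hx⟩ : s) ⤳ ⟨x', hx'⟩ := (IsInducing.subtypeVal.specializes_iff).mp h
  exact congrArg Subtype.val h'.eq

end Groth.Agent.Lib.Helper73
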