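import Mathlib.RingTheory.Ideal.KrullsHeightTheorem
import Mathlib.RingTheory.Ideal.MinimalPrime.Noetherian
import Mathlib.RingTheory.Spectrum.Prime.Topology
import Mathlib.Topology.LocallyClosed

set_option autoImplicit false

namespace Groth.Agent.Lib.Helper73

open Ideal

/-- In a Noetherian domain in which a fixed nonzero element lies in every nonzero prime,
every nonzero prime has height at most one. -/
lemma height_le_one_of_forall_mem {B : Type*} [CommRing B] [IsDomain B] [IsNoetherianRing B]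
    (f : B) (hf : f ≠ 0) (H : ∀ q : Ideal B, q.IsPrime → q ≠ ⊥ → f ∈ q)
    (r : Ideal B) [r.IsPrime] (hr0 : r ≠ ⊥) : r.height ≤ 1 := by
  classical
  by_contra hcon
  set M := (Ideal.span {f}).minimalPrimes with hM
  have hMfin : M.Finite := Ideal.finite_minimalPrimes_of_isNoetherianRing B _
  have hMht : ∀ p ∈ M, p.height ≤ 1 := fun p hp =>
    Ideal.height_le_one_of_isPrincipal_of_mem_minimalPrimes _ p hp
  have hfr : f ∈ r := H r inferInstance hr0
  have hnot : ¬ ((r : Set B) ⊆ ⋃ p ∈ (hMfin.toFinset : Set (Ideal B)), ((fun p => p) p : Set B)) := by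
    rw [Ideal.subset_union_prime (f := fun p => p) ⊥ ⊥]
    · rintro ⟨p, hp, hrp⟩
      exact hcon ((Ideal.height_mono hrp).trans (hMht p (by simpa using hp)))
    · intro p hp _ _
      have : p ∈ M := by simpa using hp
      exact this.1.1
  obtain ⟨g, hgr, hgM⟩ := Set.not_subset.mp hnot
  obtain ⟨p', hp', hp'r⟩ := Ideal.exists_minimalPrimes_le (I := span {g}) (J := r)
    (by rw [Ideal.span_le]; exact Set.singleton_subset_iff.2 hgr)
  have hp'prime : p'.IsPrime := hp'.1.1
  have hgp' : g ∈ p' := hp'.1.2 (Ideal.subset_span rfl)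
  have hg0 : g ≠ 0 := by
    rintro rfl
    obtain ⟨p, hp, -⟩ := Ideal.exists_minimalPrimes_le (I := span {f}) (J := r)
      (by rw [Ideal.span_le]; exact Set.singleton_subset_iff.2 hfr)
    exact hgM (Set.mem_iUnion₂.2 ⟨p, by rw [Finset.mem_coe, Set.Finite.mem_toFinset]; exact hp,
      zero_mem p⟩)
  have hp'bot : p' ≠ ⊥ := by
    rintro rfl
    exact hg0 (by simpa using hgp')
  have hfp' : f ∈ p' := H p' hp'prime hp'bot
  have hp'ht : p'.height ≤ 1 :=
    Ideal.height_le_one_of_isPrincipal_of_mem_minimalPrimes _ p' hp'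
  obtain ⟨p, hp, hpp'⟩ := Ideal.exists_minimalPrimes_le (I := span {f}) (J := p')
    (by rw [Ideal.span_le]; exact Set.singleton_subset_iff.2 hfp')
  have hpprime : p.IsPrime := hp.1.1
  have hpbot : p ≠ ⊥ := by
    rintro rfl
    exact hf (by simpa using hp.1.2 (Ideal.subset_span rfl))
  have hpeq : p = p' := by
    by_contra hne
    have hlt : p < p' := lt_of_le_of_ne hpp' hne
    have h1 := Ideal.height_add_one_le_of_lt_of_isPrime hlt
    have h2 : 1 ≤ p.height := by
      rw [Order.one_le_iff_ne_zero, Ne, Ideal.height_eq_zero_iff_eq_bot]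
      exact hpbot
    have h3 : (1 : ℕ∞) + 1 ≤ 1 := (add_le_add_left h2 1).trans (h1.trans hp'ht)
    exact absurd h3 (by decide)
  exact hgM (Set.mem_iUnion₂.2 ⟨p, by rw [Finset.mem_coe, Set.Finite.mem_toFinset]; exact hp,
    hpeq ▸ hgp'⟩)

lemma prime_eq_of_le_of_forall_mem {B : Type*} [CommRing B] [IsDomain B] [IsNoetherianRing B]
    (f : B) (hf : f ≠ 0) (H : ∀ q : Ideal B, q.IsPrime → q ≠ ⊥ → f ∈ q)
    (q r : Ideal B) [q.IsPrime] [r.IsPrime] (hq : q ≠ ⊥) (hqr : q ≤ r) : q = r := by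
  have hr0 : r ≠ ⊥ := fun h => hq (le_bot_iff.mp (h ▸ hqr))
  have hr := height_le_one_of_forall_mem f hf H r hr0
  by_contra hne
  have hlt : q < r := lt_of_le_of_ne hqr hne
  have h1 := Ideal.height_add_one_le_of_lt_of_isPrime hlt
  have h2 : 1 ≤ q.height := by
    rw [Order.one_le_iff_ne_zero, Ne, Ideal.height_eq_zero_iff_eq_bot]
    exact hq
  have h3 : (1 : ℕ∞) + 1 ≤ 1 := (add_le_add_left h2 1).trans (h1.trans hr)
  exact absurd h3 (by decide)

/-- In the spectrum of a Noetherian ring, if `{p}` is locally closed and `p < q ≤ r`,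
then `q = r`. -/
lemma primeSpectrum_eq_of_isLocallyClosed_singleton {A : Type*} [CommRing A] [IsNoetherianRing A]
    (p q r : PrimeSpectrum A) (hlc : IsLocallyClosed ({p} : Set (PrimeSpectrum A)))
    (hpq : p ≤ q) (hne : p ≠ q) (hqr : q ≤ r) : q = r := by
  obtain ⟨O, C, hO, hC, e⟩ := hlc
  have hpOC : p ∈ O ∩ C := e ▸ Set.mem_singleton p
  obtain ⟨_, ⟨f, rfl⟩, hpf, hfO⟩ :=
    PrimeSpectrum.isTopologicalBasis_basic_opens.exists_subset_of_mem_open hpOC.1 hO
  have hfp : f ∉ p.asIdeal := hpf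
  have Hf : ∀ q' : PrimeSpectrum A, p ≤ q' → q' ≠ p → f ∈ q'.asIdeal := by
    intro q' hpq' hne'
    by_contra hfq
    have h1 : q' ∈ O := hfO hfq
    have h2 : q' ∈ C := ((PrimeSpectrum.le_iff_specializes p q').mp hpq').mem_closed hC hpOC.2
    have : q' ∈ ({p} : Set (PrimeSpectrum A)) := e ▸ ⟨h1, h2⟩
    exact hne' this
  let P := p.asIdeal
  let mk := Ideal.Quotient.mk P
  have hsurj : Function.Surjective mk := Ideal.Quotient.mk_surjective
  have hker : RingHom.ker mk = P := Ideal.mk_ker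
  have hmkf : mk f ≠ 0 := by
    rw [Ne, Ideal.Quotient.eq_zero_iff_mem]; exact hfp
  have HB : ∀ Q : Ideal (A ⧸ P), Q.IsPrime → Q ≠ ⊥ → mk f ∈ Q := by
    intro Q hQ hQ0
    let q' : PrimeSpectrum A := ⟨Q.comap mk, inferInstance⟩
    have h1 : p ≤ q' := by
      change P ≤ Q.comap mk
      exact hker.ge.trans (Ideal.ker_le_comap mk)
    have h2 : q' ≠ p := by
      intro h
      apply hQ0
      have h3 : Q.comap mk = P := congrArg PrimeSpectrum.asIdeal h
      have h4 : Q = (Q.comap mk).map mk := (Ideal.map_comap_of_surjective mk hsurj Q).symm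
      rw [h4, h3]
      exact (Ideal.map_eq_bot_iff_le_ker mk).mpr hker.ge
    exact Hf q' h1 h2
  have hPq : P ≤ q.asIdeal := hpq
  have hPr : P ≤ r.asIdeal := hpq.trans hqr
  have hq' : (q.asIdeal.map mk).IsPrime :=
    Ideal.map_isPrime_of_surjective hsurj (hker.le.trans hPq)
  have hr' : (r.asIdeal.map mk).IsPrime :=
    Ideal.map_isPrime_of_surjective hsurj (hker.le.trans hPr)
  have hq0 : q.asIdeal.map mk ≠ ⊥ := by
    intro h
    have h' := (Ideal.map_eq_bot_iff_le_ker mk).mp h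
    exact hne (le_antisymm hpq (h'.trans hker.le))
  have key := prime_eq_of_le_of_forall_mem (mk f) hmkf HB (q.asIdeal.map mk) (r.asIdeal.map mk)
    hq0 (Ideal.map_mono hqr)
  have hcm : ∀ I : Ideal A, P ≤ I → (I.map mk).comap mk = I := by
    intro I hI
    rw [Ideal.comap_map_of_surjective mk hsurj, ← RingHom.ker_eq_comap_bot]
    exact sup_eq_left.mpr (hker.le.trans hI)
  apply PrimeSpectrum.ext
  rw [← hcm q.asIdeal hPq, ← hcm r.asIdeal hPr, key]

end Groth.Agent.Lib.Helper73
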