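import Groth.Agent.Lib.Helper21.SepPull
import Groth.Agent.S4875
import Groth.Agent.Lib.Helper73.SepLim.Ring
import Groth.Agent.Lib.Helper22.FlatBC
import Groth.Agent.Lib.Lead.QCohAff5

set_option autoImplicit false
set_option linter.style.haveILetI false
universe u
open AlgebraicGeometry CategoryTheory Opposite TopologicalSpace
open Scheme.Modules TensorProduct Groth.Agent.Lib.Helper21.QCohSections

namespace Groth.Agent.Lib.Helper73.SDMRCM

attribute [local instance] Algebra.TensorProduct.rightAlgebra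

set_option maxHeartbeats 1600000 in
theorem purity {K : Type u} [Field K] {A R : Type u} [CommRing A] [Algebra K A] [CommRing R]
    [Algebra K R] (R₀ : Subalgebra K R) (b₀ : A ⊗[K] R₀) {Bu : Type u} [CommRing Bu]
    [Algebra (A ⊗[K] R) Bu] [Algebra A Bu] [IsScalarTower A (A ⊗[K] R) Bu]
    [IsLocalization.Away (Algebra.TensorProduct.map (AlgHom.id A A) R₀.val b₀) Bu]
    (ψ : Localization.Away b₀ →ₐ[A] Bu)
    (hψ : ∀ z : A ⊗[K] R₀, ψ (algebraMap (A ⊗[K] R₀) (Localization.Away b₀) z) =
      algebraMap (A ⊗[K] R) Bu (Algebra.TensorProduct.map (AlgHom.id A A) R₀.val z))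
    (N' : Type u) [AddCommGroup N'] [Module A N'] :
    Function.Injective (LinearMap.rTensor N' ψ.toLinearMap) := by
  classical
  set θ' : A ⊗[K] R₀ →ₐ[A] A ⊗[K] R := Algebra.TensorProduct.map (AlgHom.id A A) R₀.val with hθ'
  -- retraction
  obtain ⟨r, hr⟩ := LinearMap.exists_leftInverse_of_injective R₀.val.toLinearMap
    (LinearMap.ker_eq_bot.2 Subtype.val_injective)
  let ρ : A ⊗[K] R →ₗ[A] A ⊗[K] R₀ := TensorProduct.AlgebraTensorModule.lTensor A A r
  have hρ : ρ ∘ₗ θ'.toLinearMap = LinearMap.id := by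
    apply TensorProduct.AlgebraTensorModule.ext
    intro a y
    have := congrArg (fun f => f y) hr
    simp only [LinearMap.comp_apply, LinearMap.id_apply] at this
    simp only [ρ, θ', AlgHom.toLinearMap_apply, Algebra.TensorProduct.map_tmul, AlgHom.id_apply,
      TensorProduct.AlgebraTensorModule.lTensor_tmul, AlgHom.coe_id, id_eq]
    exact congrArg (a ⊗ₜ[K] ·) this
  have hθinj : Function.Injective (LinearMap.rTensor N' θ'.toLinearMap) := by
    have h : (LinearMap.rTensor N' ρ) ∘ₗ (LinearMap.rTensor N' θ'.toLinearMap) = LinearMap.id := by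
      rw [← LinearMap.rTensor_comp, hρ, LinearMap.rTensor_id]
    intro y₁ y₂ hy
    have := congrArg (LinearMap.rTensor N' ρ) hy
    rw [← LinearMap.comp_apply, ← LinearMap.comp_apply, h] at this
    exact this
  let f₀ : (A ⊗[K] R₀) ⊗[A] N' →ₗ[A ⊗[K] R₀] Localization.Away b₀ ⊗[A] N' :=
    TensorProduct.AlgebraTensorModule.rTensor A N'
      (Algebra.linearMap (A ⊗[K] R₀) (Localization.Away b₀))
  let f₁ : (A ⊗[K] R) ⊗[A] N' →ₗ[A ⊗[K] R] Bu ⊗[A] N' :=
    TensorProduct.AlgebraTensorModule.rTensor A N' (Algebra.linearMap (A ⊗[K] R) Bu)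
  haveI i₀ : IsLocalizedModule (Submonoid.powers b₀) f₀ := inferInstance
  haveI i₁ : IsLocalizedModule (Submonoid.powers (θ' b₀)) f₁ := inferInstance
  have sl1 : ∀ (s : A ⊗[K] R₀) (z : Localization.Away b₀ ⊗[A] N'),
      LinearMap.rTensor N' ψ.toLinearMap (s • z) = θ' s • LinearMap.rTensor N' ψ.toLinearMap z := by
    intro s z
    induction z using TensorProduct.induction_on with
    | zero => rw [TensorProduct.smul_zero, map_zero, TensorProduct.smul_zero]
    | tmul β n =>
      rw [TensorProduct.smul_tmul', LinearMap.rTensor_tmul, LinearMap.rTensor_tmul,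
        TensorProduct.smul_tmul']
      congr 1
      show ψ (s • β) = θ' s • ψ β
      rw [Algebra.smul_def s β, map_mul, hψ, Algebra.smul_def]
    | add a c ha hc => rw [TensorProduct.smul_add, map_add, map_add, ha, hc, TensorProduct.smul_add]
  have sl2 : ∀ (s : A ⊗[K] R₀) (w : (A ⊗[K] R₀) ⊗[A] N'),
      LinearMap.rTensor N' θ'.toLinearMap (s • w) =
        θ' s • LinearMap.rTensor N' θ'.toLinearMap w := by
    intro s w
    induction w using TensorProduct.induction_on with
    | zero => rw [TensorProduct.smul_zero, map_zero, TensorProduct.smul_zero]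
    | tmul β n =>
      rw [TensorProduct.smul_tmul', LinearMap.rTensor_tmul, LinearMap.rTensor_tmul,
        TensorProduct.smul_tmul']
      congr 1
      show θ' (s • β) = θ' s • θ' β
      rw [smul_eq_mul, map_mul, smul_eq_mul]
    | add a c ha hc => rw [TensorProduct.smul_add, map_add, map_add, ha, hc, TensorProduct.smul_add]
  have comm : ∀ w : (A ⊗[K] R₀) ⊗[A] N', LinearMap.rTensor N' ψ.toLinearMap (f₀ w) =
      f₁ (LinearMap.rTensor N' θ'.toLinearMap w) := by
    intro w
    induction w using TensorProduct.induction_on with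
    | zero => simp
    | tmul β n =>
      simp only [f₀, f₁, TensorProduct.AlgebraTensorModule.rTensor_tmul, LinearMap.rTensor_tmul,
        Algebra.linearMap_apply, AlgHom.toLinearMap_apply]
      rw [hψ]
    | add a c ha hc => simp only [map_add, ha, hc]
  rw [injective_iff_map_eq_zero]
  intro z hz
  obtain ⟨⟨w, s⟩, hws⟩ := IsLocalizedModule.surj (Submonoid.powers b₀) f₀ z
  have hws' : (s : A ⊗[K] R₀) • z = f₀ w := hws
  have h1 : f₁ (LinearMap.rTensor N' θ'.toLinearMap w) = 0 := by
    rw [← comm, ← hws', sl1, hz, TensorProduct.smul_zero]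
  obtain ⟨c, hc⟩ := (IsLocalizedModule.eq_zero_iff (Submonoid.powers (θ' b₀)) f₁).1 h1
  obtain ⟨m, hm⟩ := c.2
  have h2 : LinearMap.rTensor N' θ'.toLinearMap ((b₀ ^ m) • w) = 0 := by
    rw [sl2, map_pow]
    have : (c : A ⊗[K] R) = θ' b₀ ^ m := hm.symm
    rw [← this]
    exact hc
  have h3 : (b₀ ^ m) • w = 0 := hθinj (h2.trans (map_zero _).symm)
  have h4 : f₀ w = 0 := by
    have h5 : (b₀ ^ m) • f₀ w = 0 := by rw [← LinearMap.map_smul, h3, map_zero]
    apply IsLocalizedModule.smul_injective f₀ (⟨b₀ ^ m, m, rfl⟩ : Submonoid.powers b₀)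
    show (b₀ ^ m) • f₀ w = (b₀ ^ m) • (0 : Localization.Away b₀ ⊗[A] N')
    rw [TensorProduct.smul_zero]; exact h5
  apply IsLocalizedModule.smul_injective f₀ s
  show (s : A ⊗[K] R₀) • z = (s : A ⊗[K] R₀) • (0 : Localization.Away b₀ ⊗[A] N')
  rw [TensorProduct.smul_zero, hws', h4]

set_option maxHeartbeats 1600000 in
theorem RCM_core {K : Type u} [Field K] {A R : Type u} [CommRing A] [Algebra K A] [CommRing R]
    [Algebra K R] {Bu : Type u} [CommRing Bu] [Algebra (A ⊗[K] R) Bu] [Algebra A Bu]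
    [IsScalarTower A (A ⊗[K] R) Bu] (b : A ⊗[K] R) [IsLocalization.Away b Bu]
    {M : Type u} [AddCommGroup M] [Module A M] {Λ : Type u} (N : Λ → Type u)
    [∀ i, AddCommGroup (N i)] [∀ i, Module A (N i)] (φ : ∀ i, M →ₗ[A] N i)
    (hSL : ∀ (g : A) (x : M), (∀ i, ∃ m : ℕ, g ^ m • φ i x = 0) → ∃ m : ℕ, g ^ m • x = 0)
    (x : Bu ⊗[A] M) (hx : ∀ i, LinearMap.lTensor Bu (φ i) x = 0) : x = 0 := by
  classical
  obtain ⟨S, hbS, hxS⟩ := Groth.Agent.Lib.Helper73.SepLim.exists_fg (A := K) (A' := R) A b x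
  set R₀ : Subalgebra K R := Algebra.adjoin K (S : Set R) with hR₀
  let θ' : A ⊗[K] R₀ →ₐ[A] A ⊗[K] R := Algebra.TensorProduct.map (AlgHom.id A A) R₀.val
  have hT : ∀ r ∈ R₀, algebraMap R (A ⊗[K] R) r ∈ θ'.range := by
    intro r hr
    refine ⟨(1 : A) ⊗ₜ[K] (⟨r, hr⟩ : R₀), ?_⟩
    simp only [θ', Algebra.TensorProduct.map_tmul, map_one, Subalgebra.coe_val]
    rfl
  obtain ⟨b₀, hb₀⟩ := Groth.Agent.Lib.Helper73.SepLim.T_le_range A θ' hT hbS
  replace hb₀ : θ' b₀ = b := hb₀
  -- finiteness / flatness of `B₀ := Localization.Away b₀` over `A`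
  haveI : Algebra.FiniteType K R₀ :=
    (Subalgebra.fg_iff_finiteType _).mp (Subalgebra.fg_adjoin_finset _)
  haveI : Algebra.FinitePresentation K R₀ :=
    Algebra.FinitePresentation.of_finiteType.mp inferInstance
  haveI : Algebra.FinitePresentation A (A ⊗[K] R₀) := Algebra.FinitePresentation.baseChange A
  haveI : Algebra.FinitePresentation (A ⊗[K] R₀) (Localization.Away b₀) :=
    IsLocalization.Away.finitePresentation b₀
  haveI : Algebra.FinitePresentation A (Localization.Away b₀) :=
    Algebra.FinitePresentation.trans A (A ⊗[K] R₀) _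
  haveI : Module.Flat (A ⊗[K] R₀) (Localization.Away b₀) :=
    IsLocalization.flat _ (Submonoid.powers b₀)
  haveI : Module.Flat A (Localization.Away b₀) := Module.Flat.trans A (A ⊗[K] R₀) _
  -- the map `ψ : B₀ → Bu`
  have hunit : IsUnit (((algebraMap (A ⊗[K] R) Bu).comp θ'.toRingHom) b₀) := by
    rw [RingHom.comp_apply]
    change IsUnit (algebraMap (A ⊗[K] R) Bu (θ' b₀))
    rw [hb₀]
    exact IsLocalization.Away.algebraMap_isUnit b
  let ψr : Localization.Away b₀ →+* Bu := IsLocalization.Away.lift b₀ hunit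
  have hψr : ∀ z : A ⊗[K] R₀, ψr (algebraMap (A ⊗[K] R₀) (Localization.Away b₀) z) =
      algebraMap (A ⊗[K] R) Bu (θ' z) := fun z => IsLocalization.Away.lift_eq b₀ hunit z
  let ψ : Localization.Away b₀ →ₐ[A] Bu :=
    { ψr with
      commutes' := fun a => by
        show ψr (algebraMap A (Localization.Away b₀) a) = algebraMap A Bu a
        rw [IsScalarTower.algebraMap_apply A (A ⊗[K] R₀) (Localization.Away b₀), hψr,
          IsScalarTower.algebraMap_apply A (A ⊗[K] R) Bu, AlgHom.commutes] }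
  have hψ : ∀ z : A ⊗[K] R₀, ψ (algebraMap (A ⊗[K] R₀) (Localization.Away b₀) z) =
      algebraMap (A ⊗[K] R) Bu (θ' z) := hψr
  have hu : IsUnit (algebraMap (A ⊗[K] R₀) (Localization.Away b₀) b₀) :=
    IsLocalization.Away.algebraMap_isUnit b₀
  obtain ⟨x₀, hx₀⟩ := Groth.Agent.Lib.Helper73.SepLim.mem_range_of_mem_Pred A b θ' ψ hψ hT b₀ hb₀
    hu x hxS
  have hb' : IsLocalization.Away (Algebra.TensorProduct.map (AlgHom.id A A) R₀.val b₀) Bu := by
    show IsLocalization.Away (θ' b₀) Bu
    rw [hb₀]; infer_instance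
  have hx₀i : ∀ i, LinearMap.lTensor (Localization.Away b₀) (φ i) x₀ = 0 := by
    intro i
    haveI := hb'
    apply purity R₀ b₀ ψ hψ (N i)
    rw [map_zero, ← LinearMap.comp_apply, LinearMap.rTensor_comp_lTensor,
      ← LinearMap.lTensor_comp_rTensor, LinearMap.comp_apply, hx₀, hx i]
  obtain ⟨l, hl, hfree⟩ := Groth.Agent.S2591.result (A := A) (B := Localization.Away b₀)
    (Localization.Away b₀)
  have key : ∀ (j : Λ) (y : Localization.Away b₀ ⊗[A] M),
      (φ j).rTensor (Localization.Away b₀) (TensorProduct.comm A (Localization.Away b₀) M y) =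
        TensorProduct.comm A (Localization.Away b₀) (N j)
          ((φ j).lTensor (Localization.Away b₀) y) := by
    intro j y
    induction y using TensorProduct.induction_on with
    | zero => simp
    | tmul β m => simp
    | add a c ha hc => simp only [map_add, ha, hc]
  have h := Groth.Agent.S4875.sep_aux (Localization.Away b₀) l hl hfree Λ l.length 0 (by simp)
    M N φ
    (by
      intro a ha p
      have : a = 0 := by simpa using ha
      rw [this, zero_smul])
    (by
      intro j a ha p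
      have : a = 0 := by simpa using ha
      rw [this, zero_smul])
    hSL (TensorProduct.comm A (Localization.Away b₀) M x₀) (fun j => by
      rw [key, hx₀i j, map_zero])
  have hx₀0 : x₀ = 0 := by
    have := congrArg (TensorProduct.comm A (Localization.Away b₀) M).symm h
    simpa using this
  rw [← hx₀, hx₀0, map_zero]

/-- **RCM** (msg 4616, exact signature). -/
theorem RCM {K : Type u} [Field K] {A R : Type u} [CommRing A] [Algebra K A] [CommRing R]
    [Algebra K R] {Bp Bu : Type u} [CommRing Bp] [CommRing Bu] [Algebra Bp Bu] [Algebra A Bu]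
    (θ : A ⊗[K] R ≃+* Bp) (b' : Bp) [IsLocalization.Away b' Bu]
    (hA : ∀ a : A, algebraMap A Bu a = algebraMap Bp Bu (θ (a ⊗ₜ[K] (1 : R))))
    {M : Type u} [AddCommGroup M] [Module A M] {Λ : Type u} (N : Λ → Type u)
    [∀ i, AddCommGroup (N i)] [∀ i, Module A (N i)] (φ : ∀ i, M →ₗ[A] N i)
    (hSL : ∀ (g : A) (x : M), (∀ i, ∃ m : ℕ, g ^ m • φ i x = 0) → ∃ m : ℕ, g ^ m • x = 0)
    (x : Bu ⊗[A] M) (hx : ∀ i, LinearMap.lTensor Bu (φ i) x = 0) : x = 0 := by
  letI alg : Algebra (A ⊗[K] R) Bu := ((algebraMap Bp Bu).comp θ.toRingHom).toAlgebra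
  haveI : IsScalarTower A (A ⊗[K] R) Bu := IsScalarTower.of_algebraMap_eq (fun a => by
    rw [hA a]; rfl)
  haveI : IsLocalization.Away (θ.symm b') Bu := by
    have h1 := (IsLocalization.isLocalization_iff_of_base_ringEquiv (Submonoid.powers b') Bu
      θ.symm).1 (inferInstance : IsLocalization.Away b' Bu)
    have h2 : Submonoid.map θ.symm (Submonoid.powers b') = Submonoid.powers (θ.symm b') :=
      Submonoid.map_powers _ _
    rw [h2] at h1
    exact h1
  exact RCM_core (θ.symm b') N φ hSL x hx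

end Groth.Agent.Lib.Helper73.SDMRCM
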