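import Mathlib.Topology.KrullDimension
import Mathlib.Topology.NoetherianSpace
import Mathlib.Topology.Sober
import Mathlib.Topology.Inseparable

set_option autoImplicit false
open TopologicalSpace Topology Order

namespace Groth.Agent.Lib.Helper73

section Lift

variable {X Y : Type*} [TopologicalSpace X] [TopologicalSpace Y]

/-- Generalizations lift along an open continuous map out of a Noetherian quasi-sober space
into a T0 space. -/
lemma exists_specializes_of_isOpenMap [NoetherianSpace X] [QuasiSober X] [T0Space Y]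
    {f : X → Y} (hf : Continuous f) (hfo : IsOpenMap f) (x : X) {y' : Y} (hy : y' ⤳ f x) :
    ∃ x', x' ⤳ x ∧ f x' = y' := by
  let Q : Closeds X → Prop := fun Z => ∀ O : Set X, IsOpen O → x ∈ O → y' ∈ f '' ((Z : Set X) ∩ O)
  have hQtop : Q ⊤ := fun O hO hx => by
    have h1 : f x ∈ f '' O := ⟨x, hx, rfl⟩
    have h2 := hy.mem_open (hfo O hO) h1
    simpa using h2
  obtain ⟨Z, hQZ, hmin⟩ := WellFounded.has_min
    (wellFounded_lt : WellFounded (α := Closeds X) (· < ·)) {Z | Q Z} ⟨⊤, hQtop⟩
  have hmin' : ∀ Z' : Closeds X, Q Z' → Z' ≤ Z → Z' = Z := by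
    intro Z' hQ' hle
    by_contra hne
    exact hmin Z' hQ' (lt_of_le_of_ne hle hne)
  have hxZ : x ∈ (Z : Set X) := by
    rw [← Z.isClosed.closure_eq, mem_closure_iff]
    intro O hO hxO
    obtain ⟨z, ⟨hz1, hz2⟩, -⟩ := hQZ O hO hxO
    exact ⟨z, hz2, hz1⟩
  have hirr : IsIrreducible (Z : Set X) := by
    refine ⟨⟨x, hxZ⟩, ?_⟩
    rw [isPreirreducible_iff_isClosed_union_isClosed]
    intro z₁ z₂ hz₁ hz₂ hsub
    let Z₁ : Closeds X := ⟨(Z : Set X) ∩ z₁, Z.isClosed.inter hz₁⟩
    let Z₂ : Closeds X := ⟨(Z : Set X) ∩ z₂, Z.isClosed.inter hz₂⟩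
    have hor : Q Z₁ ∨ Q Z₂ := by
      by_contra hcon
      rw [not_or] at hcon
      obtain ⟨h1, h2⟩ := hcon
      simp only [Q, not_forall] at h1 h2
      obtain ⟨O₁, hO₁, hx₁, hn₁⟩ := h1
      obtain ⟨O₂, hO₂, hx₂, hn₂⟩ := h2
      obtain ⟨z, ⟨hzZ, hzO₁, hzO₂⟩, hzy⟩ := hQZ (O₁ ∩ O₂) (hO₁.inter hO₂) ⟨hx₁, hx₂⟩
      rcases hsub hzZ with hz | hz
      · exact hn₁ ⟨z, ⟨⟨hzZ, hz⟩, hzO₁⟩, hzy⟩
      · exact hn₂ ⟨z, ⟨⟨hzZ, hz⟩, hzO₂⟩, hzy⟩
    rcases hor with h | h
    · left
      have := hmin' Z₁ h (fun a ha => ha.1)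
      intro a ha
      have : a ∈ (Z₁ : Set X) := by rw [this]; exact ha
      exact this.2
    · right
      have := hmin' Z₂ h (fun a ha => ha.1)
      intro a ha
      have : a ∈ (Z₂ : Set X) := by rw [this]; exact ha
      exact this.2
  obtain ⟨ξ, hξ⟩ := QuasiSober.sober hirr Z.isClosed
  have hξx : ξ ⤳ x := by
    rw [specializes_iff_mem_closure, hξ.def]
    exact hxZ
  refine ⟨ξ, hξx, ?_⟩
  have hξZ : ξ ∈ (Z : Set X) := hξ.mem
  -- `f ξ ⤳ y'`
  have h1 : f ξ ⤳ y' := by
    obtain ⟨z, ⟨hzZ, -⟩, hzy⟩ := hQZ Set.univ isOpen_univ (Set.mem_univ _)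
    have : ξ ⤳ z := by
      rw [specializes_iff_mem_closure, hξ.def]; exact hzZ
    rw [← hzy]
    exact this.map hf
  -- `y' ⤳ f ξ`
  have h2 : y' ⤳ f ξ := by
    let C : Closeds X := ⟨(Z : Set X) ∩ f ⁻¹' (closure {y'}),
      Z.isClosed.inter (isClosed_closure.preimage hf)⟩
    have hQC : Q C := by
      intro O hO hxO
      obtain ⟨z, ⟨hzZ, hzO⟩, hzy⟩ := hQZ O hO hxO
      refine ⟨z, ⟨⟨hzZ, ?_⟩, hzO⟩, hzy⟩
      change f z ∈ closure {y'}
      rw [hzy]; exact subset_closure rfl
    have := hmin' C hQC (fun a ha => ha.1)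
    have hξC : ξ ∈ (C : Set X) := by rw [this]; exact hξZ
    rw [specializes_iff_mem_closure]
    exact hξC.2
  exact (h1.antisymm h2).eq

/-- Local version: it suffices that the source point has an open neighbourhood which is a
Noetherian quasi-sober space. -/
lemma exists_specializes_of_isOpenMap_of_nhd [T0Space Y]
    {f : X → Y} (hf : Continuous f) (hfo : IsOpenMap f) (x : X) (U : Set X) (hU : IsOpen U)
    (hxU : x ∈ U) [NoetherianSpace U] [QuasiSober U] {y' : Y} (hy : y' ⤳ f x) :
    ∃ x', x' ⤳ x ∧ f x' = y' := by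
  have hg : Continuous (f ∘ (Subtype.val : U → X)) := hf.comp continuous_subtype_val
  have hgo : IsOpenMap (f ∘ (Subtype.val : U → X)) := hfo.comp hU.isOpenMap_subtype_val
  obtain ⟨ξ, hξ, hξy⟩ := exists_specializes_of_isOpenMap hg hgo ⟨x, hxU⟩ (y' := y') hy
  exact ⟨ξ.1, hξ.map continuous_subtype_val, hξy⟩

end Lift

section Dim

variable {X Y : Type*} [TopologicalSpace X] [TopologicalSpace Y]

attribute [local instance] specializationOrder

/-- If specializations lift along a surjective map `f`, then `dim Y ≤ dim X`. -/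
lemma topologicalKrullDim_le_of_specializingMap [QuasiSober X] [T0Space X] [QuasiSober Y]
    [T0Space Y] {f : X → Y} (hs : Function.Surjective f)
    (hlift : ∀ (x : X) (y' : Y), f x ⤳ y' → ∃ x', x ⤳ x' ∧ f x' = y') :
    topologicalKrullDim Y ≤ topologicalKrullDim X := by
  have key : ∀ (n : ℕ) (x : X), (n : ℕ∞) ≤ height (f x) → (n : ℕ∞) ≤ height x := by
    intro n
    induction n with
    | zero => intro x _; simp
    | succ n ih =>
      intro x hx
      obtain ⟨p, hplast, hplen⟩ := exists_series_of_le_height (f x) (n := n + 1) hx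
      let k : Fin (p.length + 1) := ⟨n, by omega⟩
      have hk : p k < f x := by
        rw [← hplast]
        apply p.strictMono
        rw [Fin.lt_def]; simp [k, hplen, Fin.last]
      have hkh : (n : ℕ∞) ≤ height (p k) := by
        have := Order.index_le_height p k
        simpa [k] using this
      have hspec : f x ⤳ p k := hk.le
      obtain ⟨x', hx', hfx'⟩ := hlift x (p k) hspec
      have hne : x' ≠ x := by
        rintro rfl
        exact hk.ne hfx'.symm
      have hlt : x' < x := lt_of_le_of_ne hx' hne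
      have := ih x' (by rw [hfx']; exact hkh)
      calc ((n + 1 : ℕ) : ℕ∞) = (n : ℕ∞) + 1 := by push_cast; rfl
        _ ≤ height x' + 1 := by gcongr
        _ ≤ height x := height_add_one_le hlt
  have hle : ∀ x : X, height (f x) ≤ height x := fun x =>
    ENat.forall_natCast_le_iff_le.mp (key · x)
  rw [topologicalKrullDim, topologicalKrullDim,
    krullDim_eq_of_orderIso (irreducibleSetEquivPoints (α := Y)),
    krullDim_eq_of_orderIso (irreducibleSetEquivPoints (α := X)),
    krullDim_eq_iSup_height (α := Y)]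
  refine iSup_le fun y => ?_
  obtain ⟨x, rfl⟩ := hs y
  exact (WithBot.coe_le_coe.mpr (hle x)).trans (height_le_krullDim x)

/-- If generalizations lift along a surjective map `f`, then `dim Y ≤ dim X`. -/
lemma topologicalKrullDim_le_of_generalizingMap [QuasiSober X] [T0Space X] [QuasiSober Y]
    [T0Space Y] {f : X → Y} (hs : Function.Surjective f)
    (hlift : ∀ (x : X) (y' : Y), y' ⤳ f x → ∃ x', x' ⤳ x ∧ f x' = y') :
    topologicalKrullDim Y ≤ topologicalKrullDim X := by
  have key : ∀ (n : ℕ) (x : X), (n : ℕ∞) ≤ coheight (f x) → (n : ℕ∞) ≤ coheight x := by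
    intro n
    induction n with
    | zero => intro x _; simp
    | succ n ih =>
      intro x hx
      obtain ⟨p, hphead, hplen⟩ := exists_series_of_le_coheight (f x) (n := n + 1) hx
      let k : Fin (p.length + 1) := ⟨1, by omega⟩
      have hk : f x < p k := by
        rw [← hphead]
        apply p.strictMono
        rw [Fin.lt_def]; simp [k]
      have hkh : (n : ℕ∞) ≤ coheight (p k) := by
        have := Order.rev_index_le_coheight p k
        simpa [k, hplen, Fin.rev] using this
      have hspec : p k ⤳ f x := hk.le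
      obtain ⟨x', hx', hfx'⟩ := hlift x (p k) hspec
      have hne : x ≠ x' := by
        rintro rfl
        exact hk.ne hfx'
      have hlt : x < x' := lt_of_le_of_ne hx' hne
      have := ih x' (by rw [hfx']; exact hkh)
      calc ((n + 1 : ℕ) : ℕ∞) = (n : ℕ∞) + 1 := by push_cast; rfl
        _ ≤ coheight x' + 1 := by gcongr
        _ ≤ coheight x := coheight_add_one_le hlt
  have hle : ∀ x : X, coheight (f x) ≤ coheight x := fun x =>
    ENat.forall_natCast_le_iff_le.mp (key · x)
  rw [topologicalKrullDim, topologicalKrullDim,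
    krullDim_eq_of_orderIso (irreducibleSetEquivPoints (α := Y)),
    krullDim_eq_of_orderIso (irreducibleSetEquivPoints (α := X)),
    krullDim_eq_iSup_coheight (α := Y)]
  refine iSup_le fun y => ?_
  obtain ⟨x, rfl⟩ := hs y
  exact (WithBot.coe_le_coe.mpr (hle x)).trans (coheight_le_krullDim x)

end Dim

end Groth.Agent.Lib.Helper73
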